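import Cfsg.Agent.Lib.FischerMTypes.TracePair

/-!
Type M(22): the trace of a non-commuting pair is a strongly regular graph (126, 45, 12, 18).
-/

set_option autoImplicit false
set_option linter.style.haveILetI false
set_option linter.unusedSectionVars false

namespace Cfsg.Agent.Lib.Fi23Recog30

open Cfsg.Agent.Lib.FischerMTypes.Basic Cfsg.Agent.Lib.FischerMTypes.Primitive
  Cfsg.Agent.Lib.FischerMTypes.TraceCounts Cfsg.Agent.Lib.FischerMTypes.TraceSize
  Cfsg.Agent.Lib.FischerMTypes.TracePair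

variable {Q : Type*} [Group Q] [Finite Q] {E : Set Q} {F : Type} [Field F] [Fintype F]
variable (S : Sys E F)

include S in
/-- two commuting members of a trace have twelve common neighbours in it -/
theorem trace_lam {a b p q : Q} (ha : a ∈ E) (hb : b ∈ E) (hab : ¬ Commute a b)
    (hp : p ∈ perp₂ E a b) (hq : q ∈ perp₂ E a b) (hne : p ≠ q) (hpq : Commute p q) :
    {y | y ∈ perp₂ E a b ∧ (y ≠ p ∧ y ≠ q ∧ Commute p y ∧ Commute q y)}.ncard = 12 := by
  have hap : a ∈ perp E p := ⟨ha, Ne.symm hp.1.2.1, hp.1.2.2.symm⟩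
  have hbp : b ∈ perp E p := ⟨hb, Ne.symm hp.2.2.1, hp.2.2.2.symm⟩
  rw [← (S.ctx p hp.1.1).ncard_nonedge_point hap hbp hab ⟨hq.1.1, hne.symm, hpq⟩ hq.1.2.2 hq.2.2.2]
  congr 1
  ext y
  constructor
  · rintro ⟨hy, hyp, hyq, h1, h2⟩
    exact ⟨⟨hy.1.1, hyp, h1⟩, hyq, hy.1.2.2, hy.2.2.2, h2⟩
  · rintro ⟨hy, hyq, h1, h2, h3⟩
    exact ⟨⟨⟨hy.1, fun h => hab (h ▸ h2).symm, h1⟩, hy.1, fun h => hab (h ▸ h1), h2⟩, hy.2.1, hyq,
      hy.2.2, h3⟩

include S in
/-- two non-commuting members of a trace have eighteen common neighbours in it -/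
theorem trace_mu {a b p q : Q} (ha : a ∈ E) (hb : b ∈ E) (hab : ¬ Commute a b) (hp : p ∈ perp₂ E a b)
    (hq : q ∈ perp₂ E a b) (hpq : ¬ Commute p q) :
    {y | y ∈ perp₂ E a b ∧ Commute p y ∧ Commute q y}.ncard = 18 := by
  classical
  set T := (Set.toFinite (perp₂ E a b)).toFinset with hT
  have hmem : ∀ y, y ∈ T ↔ y ∈ perp₂ E a b := fun y => Set.Finite.mem_toFinset _
  have cf : ∀ (P : Q → Prop) [DecidablePred P], (T.filter P).card = {y | y ∈ perp₂ E a b ∧ P y}.ncard := by
    intro P _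
    rw [← Set.ncard_coe_finset]
    congr 1
    ext y
    simp [hmem y]
  -- the number of common neighbours of a non-commuting pair is constant
  have hconst : ∀ {u v : Q}, u ∈ perp₂ E a b → v ∈ perp₂ E a b → ¬ Commute u v →
      {y | y ∈ perp₂ E a b ∧ Commute u y ∧ Commute v y}.ncard =
        {y | y ∈ perp₂ E a b ∧ Commute p y ∧ Commute q y}.ncard := by
    intro u v hu hv huv
    obtain ⟨k, hk, hku, hkv⟩ := pair_trans S ha hb hab hu hv huv hp hq hpq
    have hkC := closure_le_centralizer_pair (D := E) a b hk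
    rw [← Set.ncard_image_of_injective _ (MulAut.conj k).injective]
    congr 1
    ext y
    simp only [Set.mem_image, Set.mem_ofPred_eq, MulAut.conj_apply]
    constructor
    · rintro ⟨y, ⟨hy, h1, h2⟩, rfl⟩
      exact ⟨conj_mem_trace S.hD hkC hy, hku ▸ (commute_conj_iff k u y).mpr h1,
        hkv ▸ (commute_conj_iff k v y).mpr h2⟩
    · rintro ⟨hy, h1, h2⟩
      have he : k * (k⁻¹ * y * k) * k⁻¹ = y := by group
      refine ⟨k⁻¹ * y * k, ⟨by simpa using conj_mem_trace S.hD (inv_mem hkC) hy, ?_, ?_⟩, he⟩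
      · exact (commute_conj_iff k u _).mp (by
          show Commute (k * u * k⁻¹) (k * (k⁻¹ * y * k) * k⁻¹)
          rw [hku, he]; exact h1)
      · exact (commute_conj_iff k v _).mp (by
          show Commute (k * v * k⁻¹) (k * (k⁻¹ * y * k) * k⁻¹)
          rw [hkv, he]; exact h2)
  have hdeg : ∀ y ∈ T, (T.filter fun w => w ≠ y ∧ Commute y w).card = 45 := fun y hy => by
    rw [cf]; exact S.ncard_trace_nbr ha hb hab ((hmem y).mp hy)
  have hcard : T.card = 126 := by
    rw [← Set.ncard_eq_toFinset_card, ncard_trace S ha hb hab]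
  have htot : ∑ y ∈ T, (T.filter fun w => (w ≠ p ∧ Commute p w) ∧ (w ≠ y ∧ Commute y w)).card = 45 * 45 := by
    simp only [Finset.card_filter]
    rw [Finset.sum_comm]
    have : ∀ w ∈ T, (∑ y ∈ T, if (w ≠ p ∧ Commute p w) ∧ (w ≠ y ∧ Commute y w) then 1 else 0) =
        if w ≠ p ∧ Commute p w then 45 else 0 := by
      intro w hw
      by_cases h : w ≠ p ∧ Commute p w
      · rw [if_pos h, ← hdeg w hw, Finset.card_filter]
        refine Finset.sum_congr rfl fun y _ => ?_
        have he : (w ≠ y ∧ Commute y w) ↔ (y ≠ w ∧ Commute w y) :=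
          ⟨fun h => ⟨h.1.symm, h.2.symm⟩, fun h => ⟨h.1.symm, h.2.symm⟩⟩
        simp only [h, true_and, he, ne_eq, not_false_eq_true]
      · simp [h]
    rw [Finset.sum_congr rfl this, ← Finset.sum_filter, Finset.sum_const, hdeg p ((hmem p).mpr hp), smul_eq_mul]
  rw [← Finset.add_sum_erase T _ ((hmem p).mpr hp)] at htot
  have hself : (T.filter fun w => (w ≠ p ∧ Commute p w) ∧ (w ≠ p ∧ Commute p w)).card = 45 := by
    simp only [and_self]; exact hdeg p ((hmem p).mpr hp)
  rw [hself] at htot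
  set m := {y | y ∈ perp₂ E a b ∧ Commute p y ∧ Commute q y}.ncard
  have hterm : ∀ y ∈ T.erase p,
      (T.filter fun w => (w ≠ p ∧ Commute p w) ∧ (w ≠ y ∧ Commute y w)).card =
        if Commute p y then 12 else m := by
    intro y hy
    obtain ⟨hne, hy⟩ := Finset.mem_erase.mp hy
    rw [cf]
    split_ifs with hc
    · rw [← trace_lam S ha hb hab hp ((hmem y).mp hy) hne.symm hc]
      congr 1
      ext w
      exact ⟨fun h => ⟨h.1, h.2.1.1, h.2.2.1, h.2.1.2, h.2.2.2⟩,
        fun h => ⟨h.1, ⟨h.2.1, h.2.2.2.1⟩, h.2.2.1, h.2.2.2.2⟩⟩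
    · rw [← hconst hp ((hmem y).mp hy) hc]
      congr 1
      ext w
      exact ⟨fun h => ⟨h.1, h.2.1.2, h.2.2.2⟩, fun h => ⟨h.1,
        ⟨fun e => hc (e ▸ h.2.2).symm, h.2.1⟩, fun e => hc (e ▸ h.2.1), h.2.2⟩⟩
  have hnb : ((T.erase p).filter fun y => Commute p y).card = 45 := by
    rw [← hdeg p ((hmem p).mpr hp)]
    congr 1
    ext y
    simp only [Finset.mem_filter, Finset.mem_erase]
    tauto
  have hfar : ((T.erase p).filter fun y => ¬ Commute p y).card = 80 := by
    have := Finset.card_filter_add_card_filter_not (s := T.erase p) (fun y => Commute p y)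
    rw [hnb, Finset.card_erase_of_mem ((hmem p).mpr hp), hcard] at this
    omega
  rw [Finset.sum_congr rfl hterm, Finset.sum_ite, Finset.sum_const, Finset.sum_const, hnb, hfar,
    smul_eq_mul, smul_eq_mul] at htot
  omega

end Cfsg.Agent.Lib.Fi23Recog30
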