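import Cfsg.Agent.Lib.Fi23Recog30.Graph
import Cfsg.Agent.Lib.Fi23Recog30.Srg
import Cfsg.Agent.Lib.FischerM23C90.Near

/-!
Where all perp sets are charted by a group of type M(22): the trace of a non-commuting pair has at
most 351 members.  Two non-commuting members of a trace always have a common neighbour in it, since
a block of a base meets the seven members joined to an outside point.
-/

set_option autoImplicit false
set_option linter.style.haveILetI false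
set_option linter.unusedSectionVars false

namespace Cfsg.Agent.Lib.Fi23Recog30

open Cfsg.Agent.Lib.FischerMTypes.Basic Cfsg.Agent.Lib.FischerMTypes.Primitive
  Cfsg.Agent.Lib.FischerMTypes.Aut22 Cfsg.Agent.Lib.FischerMTypes.Syl22
  Cfsg.Agent.Lib.FischerM23C90
open Cfsg.Agent.Lib.FischerMTypes.TraceCounts (Sys)
open Cfsg.Agent.Lib.FischerMTypes.TraceSize (ncard_trace ncard_meet mem_near)

variable {G : Type*} [Group G] [Finite G] {D : Set G}
variable {Q : Type*} [Group Q] [Finite Q] {E : Set Q}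
variable {F : Type} [Field F] [Fintype F]
variable (S : Sys E F) (hch : ∀ a ∈ D, ∃ l, Chart D E a l)

include S hch in
/-- `p`, `y` and a neighbour `w` of `y`, all commuting with a non-commuting pair, have a common
neighbour commuting with the pair -/
theorem exists_meet {z c p y w : G} (hz : z ∈ D) (hc : c ∈ D) (hzc : ¬ Commute z c)
    (hp : p ∈ perp₂ D z c) (hy : y ∈ perp₂ D z c) (hw : w ∈ perp₂ D z c) (hpy : ¬ Commute p y)
    (hpw : ¬ Commute p w) (hwy : w ∈ perp D y) :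
    ∃ u ∈ perp₂ D z c, Commute p u ∧ Commute y u := by
  classical
  have hyD := hy.1.1
  obtain ⟨l, c₀⟩ := hch y hyD
  obtain ⟨ε, hεE, eε⟩ := c₀.surj w hwy
  obtain ⟨α, hα, eα⟩ := c₀.surj z ⟨hz, Ne.symm hy.1.2.1, hy.1.2.2.symm⟩
  obtain ⟨ξ, hξ, eξ⟩ := c₀.surj c ⟨hc, Ne.symm hy.2.2.1, hy.2.2.2.symm⟩
  -- a member of the trace of `y`, `p` in the chart at `z` commuting with `w`
  obtain ⟨m, cm⟩ := hch z hz
  obtain ⟨δ, hδ, eδ⟩ := cm.surj p hp.1
  obtain ⟨β, hβ, eβ⟩ := cm.surj y hy.1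
  obtain ⟨η, hη, eη⟩ := cm.surj w hw.1
  have hβδ : ¬ Commute β δ := fun e => hpy (by
    rw [← eδ, ← eβ]; exact ((cm.comm β hβ δ hδ).mpr e).symm)
  have hηβ : η ∈ perp E β := ⟨hη, fun e => hwy.2.1 (by rw [← eη, e, eβ]),
    (cm.comm β hβ η hη).mp (by rw [eβ, eη]; exact hwy.2.2)⟩
  have hηt : η ∉ perp₂ E β δ := fun hh => hpw (by
    rw [← eδ, ← eη]; exact (cm.comm δ hδ η hη).mpr hh.2.2.2)
  obtain ⟨γ', hγt, hγη⟩ : {p | p ∈ perp₂ E β δ ∧ Commute p η}.Nonempty := Set.nonempty_of_ncard_ne_zero (by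
    rw [ncard_meet S hβ (mem_near S hβ hδ hβδ) hηβ hηt]; norm_num)
  have hγE : γ' ∈ E := hγt.1.1
  have hxz := cm.mem γ' hγE
  have hxp : Commute p (m γ') := by rw [← eδ]; exact (cm.comm δ hδ γ' hγE).mpr hγt.2.2.2
  have hxy : Commute y (m γ') := by rw [← eβ]; exact (cm.comm β hβ γ' hγE).mpr hγt.1.2.2
  have hxw : Commute w (m γ') := by rw [← eη]; exact (cm.comm η hη γ' hγE).mpr hγη.symm
  by_cases hxc : Commute c (m γ')
  · exact ⟨m γ', ⟨hxz, hxz.1, fun e => hzc (e ▸ hxz.2.2), hxc⟩, hxp, hxy⟩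
  obtain ⟨γ, hγ, eγ⟩ := c₀.surj (m γ') ⟨hxz.1, fun e => hγt.1.2.1 (cm.inj γ' hγE β hβ (e.trans eβ.symm)), hxy⟩
  -- a base of the chart at `y`
  have hdα : Commute p (l α) := by rw [eα]; exact hp.1.2.2.symm
  have hdγ : Commute p (l γ) := by rw [eγ]; exact hxp
  have hdε : ¬ Commute p (l ε) := by rw [eε]; exact hpw
  have nγα : γ ≠ α := fun e => hxz.2.1 (by rw [← eγ, e, eα])
  have nγε : γ ≠ ε := fun e => hdε (e ▸ hdγ)
  have nαε : α ≠ ε := fun e => hdε (e ▸ hdα)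
  have cαε : Commute α ε := (c₀.comm α hα ε hεE).mp (by rw [eα, eε]; exact hw.1.2.2)
  have cαγ : Commute α γ := (c₀.comm α hα γ hγ).mp (by rw [eα, eγ]; exact hxz.2.2)
  have cεγ : Commute ε γ := (c₀.comm ε hεE γ hγ).mp (by rw [eε, eγ]; exact hxw)
  have htri : Tri E ε α γ := ⟨hεE, hα, hγ, nαε.symm, nγε.symm, nγα.symm, cαε.symm, cεγ, cαγ⟩
  obtain ⟨B, hB, hsub⟩ := FischerMTypes90.exists_base_of_clique S (X := {ε, α, γ})
    (by rintro u (rfl | rfl | rfl) <;> assumption)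
    (by
      rintro u (rfl | rfl | rfl) v (rfl | rfl | rfl)
      exacts [Commute.refl _, cαε.symm, cεγ, cαε, Commute.refl _, cαγ, cεγ.symm, cαγ.symm, Commute.refl _])
  have hεB : ε ∈ B := hsub (by simp)
  have hαB : α ∈ B := hsub (by simp)
  have hγB : γ ∈ B := hsub (by simp)
  -- two points of the base joined to `c`
  have hξε : ξ ∈ perp E ε := ⟨hξ, fun e => hw.2.2.1 (by rw [← eε, ← e, eξ]),
    (c₀.comm ε hεE ξ hξ).mp (by rw [eε, eξ]; exact hw.2.2.2.symm)⟩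
  have hξα : ¬ Commute ξ α := fun e => hzc (by
    rw [← eα, ← eξ]; exact ((c₀.comm ξ hξ α hα).mpr e).symm)
  have hξγ : ¬ Commute ξ γ := fun e => hxc (by rw [← eξ, ← eγ]; exact (c₀.comm ξ hξ γ hγ).mpr e)
  obtain ⟨h1, hh1, n1ε, n1α, -, hξh1⟩ := line_meet S htri hξε hξα hξγ
  obtain ⟨r, hrB, hr⟩ := Set.exists_mem_notMem_of_ncard_lt_ncard (s := six E ε α γ) (t := B)
    (by rw [ncard_six S htri, hB.card]; norm_num) (Set.toFinite _)
  have h1B : h1 ∈ B := hB.closed S hεB hαB hγB hh1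
  have nrε : r ≠ ε := fun e => hr (e ▸ htri.mem_six (Or.inl rfl))
  have nrα : r ≠ α := fun e => hr (e ▸ htri.mem_six (Or.inr (Or.inl rfl)))
  obtain ⟨h2, h2B, n2ε, n21, hξh2⟩ : ∃ h2 ∈ B, h2 ≠ ε ∧ h2 ≠ h1 ∧ Commute ξ h2 := by
    by_cases hrξ : Commute ξ r
    · exact ⟨r, hrB, nrε, fun e => hr (e ▸ hh1), hrξ⟩
    · have htri2 : Tri E ε α r := hB.tri hεB hαB hrB nαε.symm nrε.symm nrα.symm
      obtain ⟨h2, hh2, n2ε, n2α, -, hξh2⟩ := line_meet S htri2 hξε hξα hrξ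
      refine ⟨h2, hB.closed S hεB hαB hrB hh2, n2ε, fun e => hr ?_, hξh2⟩
      have e1 := six_eq S htri (htri.mem_six (Or.inl rfl)) (htri.mem_six (Or.inr (Or.inl rfl))) hh1
        nαε.symm n1ε.symm n1α.symm
      have e2 := six_eq S htri2 (htri2.mem_six (Or.inl rfl)) (htri2.mem_six (Or.inr (Or.inl rfl))) hh2
        nαε.symm n2ε.symm n2α.symm
      rw [← e1, ← e, e2]
      exact htri2.mem_six (Or.inr (Or.inr rfl))
  have htriH : Tri E ε h1 h2 := hB.tri hεB h1B h2B n1ε.symm n2ε.symm n21.symm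
  -- the members of the base joined to `p`
  let := Fintype.ofFinite B
  have T := FischerMTypes90.base_system S hB
  set P : Finset B := Finset.univ.filter fun q : B => Commute p (l (q : Q))
  have hP2 : 2 ≤ P.card := Finset.one_lt_card.mpr ⟨⟨α, hαB⟩, by simp [P, hdα], ⟨γ, hγB⟩, by simp [P, hdγ],
    fun e => nγα (congrArg Subtype.val e).symm⟩
  have hP3 : ∀ H ∈ blks E B, 2 ≤ (H ∩ P).card → (H ∩ P).card = 3 := by
    intro H hH h2c
    obtain ⟨p', q', r', n1, n2, n3, rfl⟩ := mem_blks.mp hH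
    have ht' : Tri E (p' : Q) q' r' := hB.tri p'.2 q'.2 r'.2 (Subtype.coe_ne_coe.mpr n1) (Subtype.coe_ne_coe.mpr n2)
      (Subtype.coe_ne_coe.mpr n3)
    obtain ⟨a, ha, b, hb, hab⟩ := Finset.one_lt_card.mp h2c
    simp only [Finset.mem_inter, mem_blk, P, Finset.mem_filter, Finset.mem_univ, true_and] at ha hb
    obtain ⟨v, hv, hdv⟩ : ∃ v ∈ six E (p' : Q) q' r', ¬ Commute p (l v) := by
      by_contra hall
      push Not at hall
      have hfin := Set.toFinite (six E (p' : Q) q' r')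
      refine hpy ?_
      rw [← c₀.six_prod _ _ _ ht' hfin.toFinset.toList (Finset.nodup_toList _) (fun u => by simp)]
      exact Commute.list_prod_right _ _ fun u hu => by
        obtain ⟨x, hx, rfl⟩ := List.mem_map.mp hu
        exact hall x (by simpa using hx)
    have nva : v ≠ a := fun e => hdv (e ▸ ha.2)
    have nvb : v ≠ b := fun e => hdv (e ▸ hb.2)
    have hab' : (a : Q) ≠ b := Subtype.coe_ne_coe.mpr hab
    have e3 := six_eq S ht' ha.1 hb.1 hv hab' nva.symm nvb.symm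
    have ht3 : Tri E (a : Q) b v := hB.tri a.2 b.2 (hB.closed S p'.2 q'.2 r'.2 hv) hab' nva.symm nvb.symm
    obtain ⟨s, hs, nsa, nsb, hds, huniq⟩ := third S hch hyD hp.1.1 hpy c₀ ht3 ha.2 hb.2 hdv
    rw [e3] at hs huniq
    rw [Finset.card_eq_three]
    refine ⟨a, b, ⟨s, hB.closed S p'.2 q'.2 r'.2 hs⟩, hab, fun e => nsa (congrArg Subtype.val e).symm,
      fun e => nsb (congrArg Subtype.val e).symm, ?_⟩
    ext u
    simp only [Finset.mem_inter, mem_blk, P, Finset.mem_filter, Finset.mem_univ, true_and, Finset.mem_insert,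
      Finset.mem_singleton]
    constructor
    · rintro ⟨hu, hdu⟩
      by_cases hua : u = a
      · exact Or.inl hua
      by_cases hub : u = b
      · exact Or.inr (Or.inl hub)
      exact Or.inr (Or.inr (Subtype.ext (huniq u hu (Subtype.coe_ne_coe.mpr hua) (Subtype.coe_ne_coe.mpr hub) hdu)))
    · rintro (rfl | rfl | rfl)
      exacts [ha, hb, ⟨hs, hds⟩]
  obtain ⟨q, hq⟩ := meet_all T P hP2 hP3 (blk E (⟨ε, hεB⟩ : B) ⟨h1, h1B⟩ ⟨h2, h2B⟩)
    (mem_blks.mpr ⟨_, _, _, fun e => n1ε (congrArg Subtype.val e).symm, fun e => n2ε (congrArg Subtype.val e).symm,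
      fun e => n21 (congrArg Subtype.val e).symm, rfl⟩)
  simp only [Finset.mem_inter, mem_blk, P, Finset.mem_filter, Finset.mem_univ, true_and] at hq
  have hm := c₀.mem (q : Q) (hB.sub q.2)
  have hqc : Commute c (l q) := by
    rw [← eξ]
    exact (c₀.comm ξ hξ _ (hB.sub q.2)).mpr (hq.1.2 ξ ⟨hξ, hξε.2.2, hξh1.symm, hξh2.symm⟩).symm
  have hqz : Commute z (l q) := by
    rw [← eα]
    exact (c₀.comm α hα _ (hB.sub q.2)).mpr (hB.clique α hαB _ q.2)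
  exact ⟨l q, ⟨⟨hm.1, fun e => hzc (e ▸ hqc).symm, hqz⟩, hm.1, fun e => hzc (e ▸ hqz), hqc⟩, hq.2, hm.2.2⟩

/-- joined in the commuting graph -/
def Adj (x y : G) : Prop := x ≠ y ∧ Commute x y

include S hch in
/-- a trace has at most 351 members -/
theorem trace_le {z c : G} (hz : z ∈ D) (hc : c ∈ D) (hzc : ¬ Commute z c)
    (hne : (perp₂ D z c).Nonempty) : (perp₂ D z c).ncard ≤ 351 := by
  classical
  set T := (Set.toFinite (perp₂ D z c)).toFinset with hT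
  have hmem : ∀ y, y ∈ T ↔ y ∈ perp₂ D z c := fun y => Set.Finite.mem_toFinset _
  have hsymm : ∀ x y : G, Adj x y → Adj y x := fun x y h => ⟨h.1.symm, h.2.symm⟩
  have hirr : ∀ x : G, ¬ Adj x x := fun x h => h.1 rfl
  -- the neighbours of a member are the trace of the charted pair
  have key : ∀ y ∈ T, ∃ (l : Q → G) (a b : Q), Chart D E y l ∧ a ∈ E ∧ b ∈ E ∧ ¬ Commute a b ∧
      (∀ e ∈ perp₂ E a b, l e ∈ T ∧ Adj y (l e)) ∧
      ∀ w ∈ T, Adj y w → ∃ e ∈ perp₂ E a b, l e = w := by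
    intro y hy
    rw [hmem] at hy
    obtain ⟨l, cl⟩ := hch y hy.1.1
    obtain ⟨a, ha, ea⟩ := cl.surj z ⟨hz, Ne.symm hy.1.2.1, hy.1.2.2.symm⟩
    obtain ⟨b, hb, eb⟩ := cl.surj c ⟨hc, Ne.symm hy.2.2.1, hy.2.2.2.symm⟩
    refine ⟨l, a, b, cl, ha, hb, fun e => hzc (by rw [← ea, ← eb]; exact (cl.comm a ha b hb).mpr e),
      fun e he => ?_, fun w hw hyw => ?_⟩
    · have hm := cl.mem e he.1.1
      refine ⟨(hmem _).mpr ⟨⟨hm.1, fun h => he.1.2.1 (cl.inj e he.1.1 a ha (h.trans ea.symm)), ?_⟩,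
        hm.1, fun h => he.2.2.1 (cl.inj e he.1.1 b hb (h.trans eb.symm)), ?_⟩, Ne.symm hm.2.1, hm.2.2⟩
      · rw [← ea]; exact (cl.comm a ha e he.1.1).mpr he.1.2.2
      · rw [← eb]; exact (cl.comm b hb e he.1.1).mpr he.2.2.2
    · rw [hmem] at hw
      obtain ⟨e, he, rfl⟩ := cl.surj w ⟨hw.1.1, Ne.symm hyw.1, hyw.2⟩
      exact ⟨e, ⟨⟨he, fun h => hw.1.2.1 (by rw [h, ea]), (cl.comm a ha e he).mp (by rw [ea]; exact hw.1.2.2)⟩,
        he, fun h => hw.2.2.1 (by rw [h, eb]), (cl.comm b hb e he).mp (by rw [eb]; exact hw.2.2.2)⟩, rfl⟩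
  -- transport of counts
  have hcount : ∀ (y : G) (l : Q → G) (a b : Q), Chart D E y l →
      (∀ e ∈ perp₂ E a b, l e ∈ T ∧ Adj y (l e)) → (∀ w ∈ T, Adj y w → ∃ e ∈ perp₂ E a b, l e = w) →
      ∀ (P : G → Prop) [DecidablePred P],
        (T.filter fun w => Adj y w ∧ P w).card = {e | e ∈ perp₂ E a b ∧ P (l e)}.ncard := by
    intro y l a b cl h1 h2 P _
    rw [← Set.ncard_coe_finset, ← Set.InjOn.ncard_image
      (f := l) (s := {e | e ∈ perp₂ E a b ∧ P (l e)}) fun e he f hf h => cl.inj e he.1.1.1 f hf.1.1.1 h]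
    congr 1
    ext w
    simp only [Finset.coe_filter, Set.mem_ofPred_eq, Set.mem_image]
    constructor
    · rintro ⟨hw, hyw, hP⟩
      obtain ⟨e, he, rfl⟩ := h2 w hw hyw
      exact ⟨e, ⟨he, hP⟩, rfl⟩
    · rintro ⟨e, ⟨he, hP⟩, rfl⟩
      exact ⟨(h1 e he).1, (h1 e he).2, hP⟩
  have hadj : ∀ {y : G} {l : Q → G}, Chart D E y l → ∀ {e f : Q}, e ∈ E → f ∈ E →
      (Adj (l e) (l f) ↔ e ≠ f ∧ Commute e f) := fun {y l} cl {e f} he hf =>
    ⟨fun h => ⟨fun h' => h.1 (by rw [h']), (cl.comm e he f hf).mp h.2⟩,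
      fun h => ⟨fun h' => h.1 (cl.inj e he f hf h'), (cl.comm e he f hf).mpr h.2⟩⟩
  have hdeg : ∀ y ∈ T, (T.filter fun w => Adj y w).card = 126 := by
    intro y hy
    obtain ⟨l, a, b, cl, ha, hb, hab, h1, h2⟩ := key y hy
    have := hcount y l a b cl h1 h2 (fun _ => True)
    simp only [and_true] at this
    rw [this, ← ncard_trace S ha hb hab]
    rfl
  have hlam : ∀ y ∈ T, ∀ q ∈ T, Adj y q → (T.filter fun w => Adj y w ∧ Adj q w).card = 45 := by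
    intro y hy q hq hyq
    obtain ⟨l, a, b, cl, ha, hb, hab, h1, h2⟩ := key y hy
    obtain ⟨f, hf, rfl⟩ := h2 q hq hyq
    rw [hcount y l a b cl h1 h2 (fun w => Adj (l f) w), ← S.ncard_trace_nbr ha hb hab hf]
    congr 1
    ext e
    simp only [Set.mem_ofPred_eq, and_congr_right_iff]
    exact fun he => ⟨fun h => ⟨((hadj cl hf.1.1 he.1.1).mp h).1.symm, ((hadj cl hf.1.1 he.1.1).mp h).2⟩,
      fun h => (hadj cl hf.1.1 he.1.1).mpr ⟨h.1.symm, h.2⟩⟩
  have hlam₂ : ∀ y ∈ T, ∀ q ∈ T, ∀ r ∈ T, Adj y q → Adj y r → Adj q r →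
      (T.filter fun w => Adj y w ∧ (Adj q w ∧ Adj r w)).card = 12 := by
    intro y hy q hq r hr hyq hyr hqr
    obtain ⟨l, a, b, cl, ha, hb, hab, h1, h2⟩ := key y hy
    obtain ⟨f, hf, rfl⟩ := h2 q hq hyq
    obtain ⟨g, hg, rfl⟩ := h2 r hr hyr
    obtain ⟨nfg, cfg⟩ := (hadj cl hf.1.1 hg.1.1).mp hqr
    rw [hcount y l a b cl h1 h2 (fun w => Adj (l f) w ∧ Adj (l g) w),
      ← trace_lam S ha hb hab hf hg nfg cfg]
    congr 1
    ext e
    simp only [Set.mem_ofPred_eq, and_congr_right_iff]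
    intro he
    rw [hadj cl hf.1.1 he.1.1, hadj cl hg.1.1 he.1.1]
    exact ⟨fun h => ⟨h.1.1.symm, h.2.1.symm, h.1.2, h.2.2⟩, fun h => ⟨⟨h.1.symm, h.2.2.1⟩, h.2.1.symm, h.2.2.2⟩⟩
  have hmu₂ : ∀ y ∈ T, ∀ q ∈ T, ∀ r ∈ T, Adj y q → Adj y r → q ≠ r → ¬ Adj q r →
      (T.filter fun w => Adj y w ∧ (Adj q w ∧ Adj r w)).card = 18 := by
    intro y hy q hq r hr hyq hyr hne' hqr
    obtain ⟨l, a, b, cl, ha, hb, hab, h1, h2⟩ := key y hy
    obtain ⟨f, hf, rfl⟩ := h2 q hq hyq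
    obtain ⟨g, hg, rfl⟩ := h2 r hr hyr
    have cfg : ¬ Commute f g := fun h => hqr ⟨hne', (cl.comm f hf.1.1 g hg.1.1).mpr h⟩
    rw [hcount y l a b cl h1 h2 (fun w => Adj (l f) w ∧ Adj (l g) w),
      ← trace_mu S ha hb hab hf hg cfg]
    congr 1
    ext e
    simp only [Set.mem_ofPred_eq, and_congr_right_iff]
    intro he
    rw [hadj cl hf.1.1 he.1.1, hadj cl hg.1.1 he.1.1]
    exact ⟨fun h => ⟨h.1.2, h.2.2⟩, fun h => ⟨⟨fun e' => cfg (e' ▸ h.2).symm, h.1⟩, fun e' => cfg (e' ▸ h.1), h.2⟩⟩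
  obtain ⟨p, hpT⟩ := hne
  have hp := (hmem p).mpr hpT
  rw [Set.ncard_eq_toFinset_card _ (Set.toFinite _), ← hT]
  refine card_le_of_meet (R := Adj) T p hp hsymm hdeg (fun y hy h => hlam p hp y hy h) fun y hy hne' hpy => ?_
  have hnc : ¬ Commute p y := fun h => hpy ⟨hne'.symm, h⟩
  set A := T.filter fun w => Adj y w with hA
  set M := T.filter fun w => Adj p w ∧ Adj y w with hM
  have hAm : ∀ {w}, w ∈ A → w ∈ T ∧ Adj y w := fun {w} h => Finset.mem_filter.mp h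
  have hMm : ∀ {w}, w ∈ M → w ∈ T ∧ Adj p w ∧ Adj y w := fun {w} h => Finset.mem_filter.mp h
  have hinA : ∀ (P : G → Prop) [DecidablePred P], A.filter P = T.filter fun w => Adj y w ∧ P w :=
    fun P _ => Finset.filter_filter _ _ _
  refine card_ge_of_inner (R := Adj) A M (fun w hw => Finset.mem_filter.mpr ⟨(hMm hw).1, (hMm hw).2.2⟩)
    (hdeg y hy) hsymm (fun x hx => ?_) (fun x hx x' hx' hne'' h => ?_) (fun x hx x' hx' hne'' h => ?_) hirr
    (fun x hx => ?_) ?_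
  · rw [hinA]; exact hlam y hy x (hAm hx).1 (hAm hx).2
  · rw [hinA]; exact hlam₂ y hy x (hAm hx).1 x' (hAm hx').1 (hAm hx).2 (hAm hx').2 h
  · rw [hinA]; exact hmu₂ y hy x (hAm hx).1 x' (hAm hx').1 (hAm hx).2 (hAm hx').2 hne'' h
  · obtain ⟨hxT, hpx, hyx⟩ := hMm hx
    rw [← hmu₂ x hxT p hp y hy (hsymm _ _ hpx) (hsymm _ _ hyx) hne'.symm hpy]
    congr 1
    ext w
    simp only [hM, Finset.mem_filter]
    tauto
  · -- the two members have a common neighbour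
    obtain ⟨w, hw⟩ : A.Nonempty := Finset.card_pos.mp (by rw [hA, hdeg y hy]; norm_num)
    obtain ⟨hwT, hyw⟩ := hAm hw
    by_cases hpw : Commute p w
    · exact ⟨w, Finset.mem_filter.mpr ⟨hwT, ⟨fun e => hnc (e ▸ hyw.2).symm, hpw⟩, hyw⟩⟩
    have hyT := (hmem y).mp hy
    have hwT' := (hmem w).mp hwT
    obtain ⟨u, hu, hup, huy⟩ := exists_meet S hch hz hc hzc hpT hyT hwT' hnc hpw
      ⟨hwT'.1.1, hyw.1.symm, hyw.2⟩
    exact ⟨u, Finset.mem_filter.mpr ⟨(hmem u).mpr hu, ⟨fun e => hnc (e ▸ huy).symm, hup⟩,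
      ⟨fun e => hnc (e ▸ hup), huy⟩⟩⟩

end Cfsg.Agent.Lib.Fi23Recog30
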