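import Cfsg.Agent.Lib.Fi23Recog30.Local
import Cfsg.Agent.Lib.Fi23Recog30.Trace

/-!
A group with an involution whose centraliser is a quasisimple double cover of Fi22 and which is not
weakly closed in it is the presented Fi23.
-/

set_option autoImplicit false
set_option linter.style.haveILetI false
set_option linter.unusedSectionVars false

namespace Cfsg.Agent.Lib.Fi23Recog30

open Cfsg.Agent.Lib.FischerMTypes.Basic Cfsg.Agent.Lib.FischerMTypes.Primitive
  Cfsg.Agent.Lib.FischerMTypes.Step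
open Cfsg.Agent.Lib.FischerMTypes.TraceCounts (Sys)

/-- the isomorphism from the setting -/
theorem iso_of_base {G : Type*} [Group G] [Finite G] {Q : Type*} [Group Q] [Finite Q] {E : Set Q}
    {F : Type} [Field F] [Fintype F] (S₂ : Sys E F) {Cg : Subgroup G} {π : ↥Cg →* Q} {z : ↥Cg}
    {L : Q → ↥Cg} {B : Set Q} {T : Sylow 2 ↥Cg} {A : Subgroup G}
    (b : FischerM23C90.Base Cg E π z L B T A) : Nonempty (G ≃* Cfsg.Spor.Fi23) := by
  obtain ⟨S⟩ := exists_step S₂ b
  have hz : (z : G) ∈ conjugatesOf (z : G) := mem_conjugatesOf_self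
  obtain ⟨k, hk, x, hx, hkx⟩ := S.exists_perp_noncomm FischerMTypes.M23Data.small hz
  have hne : (perp₂ (conjugatesOf (z : G)) k x).Nonempty :=
    ⟨(z : G), ⟨hz, Ne.symm hk.2.1, hk.2.2.symm⟩, hz, Ne.symm hx.2.1, hx.2.2.symm⟩
  have hxn : x ∈ near (conjugatesOf (z : G)) k := ⟨hx.1, hkx, hne⟩
  refine iso_of_trace S₂ S (fun a ha => self_mem S₂ b ha) hk.1 hxn (le_antisymm ?_ ?_)
  · exact trace_le S₂ (FischerM23C90.chart_all S₂ b) hk.1 hx.1 hkx hne
  · exact (FischerMTypes.M23Data.trace_bounds (F := F) S hk.1 hxn).1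

/-- Fi23 from a transposition centraliser -/
theorem iso_fi23 {G : Type*} [Group G] [Finite G] (d : G) (hd : orderOf d = 2)
    (hq : Cfsg.IsQuasisimple (Subgroup.centralizer ({d} : Set G)))
    [((Subgroup.zpowers d).subgroupOf (Subgroup.centralizer ({d} : Set G))).Normal]
    (e : Cfsg.Spor.IsoFi22 ((Subgroup.centralizer ({d} : Set G)) ⧸
      (Subgroup.zpowers d).subgroupOf (Subgroup.centralizer ({d} : Set G))))
    (hnwc : ∃ g : G, g * d * g⁻¹ ∈ Subgroup.centralizer ({d} : Set G) ∧ g * d * g⁻¹ ≠ d) :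
    Nonempty (G ≃* Cfsg.Spor.Fi23) := by
  obtain ⟨Q, _, _, E, F, _, _, S₂, π, z, L, B, T, A, -, b⟩ := exists_setting d hd hq e hnwc
  exact iso_of_base S₂ b

end Cfsg.Agent.Lib.Fi23Recog30
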