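import Cfsg.Prelude.Def_Spor_Fi22
import Cfsg.Agent.Lib.FischerExist27.M22
import Cfsg.Agent.Lib.FischerExist27.Transport
import Cfsg.Agent.Lib.FischerUniq91.Main

/-!
Every group isomorphic to the presented Fi22 carries a class of 3-transpositions of type M(22).
-/

set_option autoImplicit false
set_option linter.style.haveILetI false

namespace Cfsg.Agent.Lib.Fi23Recog30

universe u

/-- a class of 3-transpositions is a 3-transposition group -/
theorem group_of_class {G : Type*} [Group G] {D : Set G}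
    (h : Cfsg.IsThreeTranspositionClass D) : Cfsg.IsThreeTranspositionGroup D := by
  obtain ⟨hset, ⟨d, -, rfl⟩, hgen⟩ := h
  exact ⟨hset, fun g x hx => IsConj.trans hx (isConj_iff.2 ⟨g, rfl⟩), hgen⟩

/-- the image of a class of 3-transpositions under an isomorphism -/
theorem class_of_equiv {G H : Type*} [Group G] [Group H] (e : G ≃* H) {D : Set G}
    (h : Cfsg.IsThreeTranspositionClass D) : Cfsg.IsThreeTranspositionClass (e '' D) := by
  obtain ⟨⟨hord, hprod⟩, ⟨d, hd, rfl⟩, hgen⟩ := h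
  refine ⟨⟨?_, ?_⟩, ⟨e d, ⟨d, hd, rfl⟩, ?_⟩, ?_⟩
  · rintro _ ⟨x, hx, rfl⟩
    rw [MulEquiv.orderOf_eq]; exact hord x hx
  · rintro _ ⟨x, hx, rfl⟩ _ ⟨y, hy, rfl⟩
    rcases hprod x hx y hy with h | h
    · exact Or.inl (by rw [← map_mul, ← map_pow, h, map_one])
    · exact Or.inr (by rw [← map_mul, ← map_pow, h, map_one])
  · ext y
    constructor
    · rintro ⟨x, hx, rfl⟩
      obtain ⟨g, rfl⟩ := isConj_iff.1 (show IsConj d x from hx)
      exact isConj_iff.2 ⟨e g, by simp⟩
    · intro hy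
      obtain ⟨g, rfl⟩ := isConj_iff.1 (show IsConj (e d) y from hy)
      obtain ⟨g, rfl⟩ := e.surjective g
      exact ⟨g * d * g⁻¹, isConj_iff.2 ⟨g, rfl⟩, by simp⟩
  · rw [show (e '' conjugatesOf d) = (e.toMonoidHom : G →* H) '' conjugatesOf d from rfl,
      ← MonoidHom.map_closure, hgen, Subgroup.map_top_of_surjective _ e.surjective]

/-- the class in any isomorphic copy -/
theorem exists_class {Q : Type u} [Group Q] (hQ : Cfsg.Spor.IsoFi22 Q) :
    ∃ E : Set Q, Cfsg.IsThreeTranspositionClass E ∧ Cfsg.IsOfTypeM22 Q E := by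
  obtain ⟨i⟩ := hQ
  obtain ⟨ρ, h, hcl, hprim, htype⟩ := Cfsg.Agent.Lib.FischerExist27.M22.main
  haveI : Finite Cfsg.Agent.Lib.FischerExist27.M22.X := Finite.of_injective ρ h.inj
  obtain ⟨e, -⟩ := Cfsg.Agent.Lib.FischerUniq91.Main.exists_iso (group_of_class hcl) hprim htype
  exact ⟨_, class_of_equiv (e.symm.trans i.symm) hcl,
    Cfsg.Agent.Lib.FischerExist27.typeM22_of_equiv _ rfl htype⟩

end Cfsg.Agent.Lib.Fi23Recog30
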