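import Mathlib

/-!
Two counting facts about regular graphs: a set of constant inner degree 18 in a strongly regular
graph (126, 45, 12, 18) has at least 45 points, and a graph of degree 126 with 45 common neighbours
on edges and at least 45 on non-edges has at most 351 points.
-/

set_option autoImplicit false
set_option linter.unusedSectionVars false

namespace Cfsg.Agent.Lib.Fi23Recog30

variable {α : Type*} [DecidableEq α] {R : α → α → Prop} [DecidableRel R]

/-- a non-empty set of inner degree 18 in a strongly regular graph (126, 45, 12, 18) -/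
theorem card_ge_of_inner (A M : Finset α) (hMA : M ⊆ A) (hA : A.card = 126)
    (hsymm : ∀ x y, R x y → R y x)
    (hdeg : ∀ x ∈ A, (A.filter fun y => R x y).card = 45)
    (hlam : ∀ x ∈ A, ∀ y ∈ A, x ≠ y → R x y → (A.filter fun w => R x w ∧ R y w).card = 12)
    (hmu : ∀ x ∈ A, ∀ y ∈ A, x ≠ y → ¬ R x y → (A.filter fun w => R x w ∧ R y w).card = 18)
    (hirr : ∀ x, ¬ R x x)
    (hin : ∀ x ∈ M, (M.filter fun y => R x y).card = 18) (hne : M.Nonempty) : 45 ≤ M.card := by
  set N : α → ℕ := fun f => (M.filter fun x => R f x).card with hN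
  have hsum : ∑ f ∈ A, N f = 45 * M.card := by
    simp only [hN, Finset.card_filter]
    rw [Finset.sum_comm, Finset.sum_eq_card_nsmul (b := 45), smul_eq_mul, mul_comm]
    intro x hx
    rw [← Finset.card_filter, ← hdeg x (hMA hx)]
    congr 1
    ext f
    simp only [Finset.mem_filter]
    exact ⟨fun h => ⟨h.1, hsymm _ _ h.2⟩, fun h => ⟨h.1, hsymm _ _ h.2⟩⟩
  have hsq : ∑ f ∈ A, N f ^ 2 = ∑ x ∈ M, ∑ y ∈ M, (A.filter fun f => R x f ∧ R y f).card := by
    simp only [hN, Finset.card_filter, sq, Finset.sum_mul_sum]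
    rw [Finset.sum_comm]
    refine Finset.sum_congr rfl fun x _ => ?_
    rw [Finset.sum_comm]
    refine Finset.sum_congr rfl fun y _ => Finset.sum_congr rfl fun f _ => ?_
    by_cases h1 : R f x <;> by_cases h2 : R f y
    · simp [h1, h2, hsymm _ _ h1, hsymm _ _ h2]
    · simp [h1, h2, show ¬ R y f from fun e => h2 (hsymm _ _ e)]
    · simp [h1, show ¬ R x f from fun e => h1 (hsymm _ _ e)]
    · simp [h1, show ¬ R x f from fun e => h1 (hsymm _ _ e)]
  have hrow : ∀ x ∈ M, (∑ y ∈ M, (A.filter fun f => R x f ∧ R y f).card) + 81 = 18 * M.card := by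
    intro x hx
    have h19 : 19 ≤ M.card := by
      have hsub : insert x (M.filter fun y => R x y) ⊆ M := Finset.insert_subset hx (Finset.filter_subset _ _)
      have := Finset.card_le_card hsub
      rwa [Finset.card_insert_of_notMem (by simp [hirr]), hin x hx] at this
    rw [← Finset.add_sum_erase M _ hx]
    have hd : (A.filter fun f => R x f ∧ R x f).card = 45 := by
      simp only [and_self]; exact hdeg x (hMA hx)
    rw [hd]
    have he : ∀ y ∈ M.erase x,
        (A.filter fun f => R x f ∧ R y f).card + (if R x y then 6 else 0) = 18 := by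
      intro y hy
      obtain ⟨hne, hy⟩ := Finset.mem_erase.mp hy
      split_ifs with h
      · rw [hlam x (hMA hx) y (hMA hy) hne.symm h]
      · rw [hmu x (hMA hx) y (hMA hy) hne.symm h]
    have hs := Finset.sum_congr rfl he
    rw [Finset.sum_add_distrib, ← Finset.sum_filter, Finset.sum_const, Finset.sum_const,
      smul_eq_mul, smul_eq_mul, Finset.card_erase_of_mem hx] at hs
    have hf : ((M.erase x).filter fun y => R x y).card = 18 := by
      rw [← hin x hx]
      congr 1
      ext y
      simp only [Finset.mem_filter, Finset.mem_erase]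
      exact ⟨fun h => ⟨h.1.2, h.2⟩, fun h => ⟨⟨fun e => hirr x (e ▸ h.2), h.1⟩, h.2⟩⟩
    omega
  have hsq' : (∑ f ∈ A, N f ^ 2) + 81 * M.card = 18 * M.card * M.card := by
    have := Finset.sum_congr rfl hrow
    rw [Finset.sum_add_distrib, Finset.sum_const, Finset.sum_const, ← hsq, smul_eq_mul, smul_eq_mul] at this
    linarith [this]
  have hM : ∀ x ∈ M, N x = 18 := hin
  set U := A \ M
  have h1 : (∑ f ∈ U, (N f : ℤ)) = 27 * M.card := by
    have h := Finset.sum_sdiff (f := N) hMA
    rw [hsum, Finset.sum_eq_card_nsmul hM, smul_eq_mul] at h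
    have := congrArg (fun k : ℕ => (k : ℤ)) h
    push_cast at this
    linarith
  have h2 : (∑ f ∈ U, (N f : ℤ) ^ 2) = 18 * (M.card : ℤ) ^ 2 - 405 * M.card := by
    have h := Finset.sum_sdiff (f := fun f => N f ^ 2) hMA
    rw [Finset.sum_eq_card_nsmul (s := M) (b := 324) (fun x hx => by rw [hM x hx]; norm_num),
      smul_eq_mul] at h
    rw [← h] at hsq'
    have := congrArg (fun k : ℕ => (k : ℤ)) hsq'
    push_cast at this
    linarith
  have hU : (U.card : ℤ) = 126 - M.card := by
    have : U.card + M.card = A.card := Finset.card_sdiff_add_card_eq_card hMA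
    rw [hA] at this
    omega
  have hcs := sq_sum_le_card_mul_sum_sq (s := U) (f := fun f => (N f : ℤ))
  rw [h1, h2, hU] at hcs
  have hpos : (1 : ℤ) ≤ M.card := by exact_mod_cast hne.card_pos
  by_contra hlt
  push Not at hlt
  have : (M.card : ℤ) ≤ 44 := by omega
  nlinarith [mul_pos (show (0 : ℤ) < M.card by linarith)
    (mul_pos (show (0 : ℤ) < 45 - M.card by linarith) (show (0 : ℤ) < 63 - M.card by linarith))]

/-- degree 126, 45 common neighbours on edges, at least 45 elsewhere: at most 351 points -/
theorem card_le_of_meet (T : Finset α) (p : α) (hp : p ∈ T) (hsymm : ∀ x y, R x y → R y x)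
    (hdeg : ∀ x ∈ T, (T.filter fun y => R x y).card = 126)
    (hlam : ∀ y ∈ T, R p y → (T.filter fun w => R p w ∧ R y w).card = 45)
    (hmu : ∀ y ∈ T, y ≠ p → ¬ R p y → 45 ≤ (T.filter fun w => R p w ∧ R y w).card) : T.card ≤ 351 := by
  set K := T.filter fun y => R p y with hK
  have htot : ∑ y ∈ T, (T.filter fun w => R p w ∧ R y w).card = 126 * 126 := by
    simp only [Finset.card_filter]
    rw [Finset.sum_comm]
    have : ∀ w ∈ T, (∑ y ∈ T, if R p w ∧ R y w then 1 else 0) = if R p w then 126 else 0 := by
      intro w hw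
      by_cases h : R p w
      · rw [if_pos h, ← hdeg w hw, Finset.card_filter]
        refine Finset.sum_congr rfl fun y _ => ?_
        by_cases h2 : R w y
        · simp [h, h2, hsymm _ _ h2]
        · simp [h2, show ¬ R y w from fun e => h2 (hsymm _ _ e)]
      · simp [h]
    rw [Finset.sum_congr rfl this, ← Finset.sum_filter, Finset.sum_const, hdeg p hp, smul_eq_mul]
  rw [← Finset.add_sum_erase T _ hp] at htot
  have hself : (T.filter fun w => R p w ∧ R p w).card = 126 := by
    simp only [and_self]; exact hdeg p hp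
  rw [hself] at htot
  have hle : ∀ y ∈ T.erase p, 45 ≤ (T.filter fun w => R p w ∧ R y w).card := by
    intro y hy
    obtain ⟨hne, hy⟩ := Finset.mem_erase.mp hy
    by_cases h : R p y
    · exact (hlam y hy h).ge
    · exact hmu y hy hne h
  have hsum := Finset.card_nsmul_le_sum _ _ _ hle
  rw [smul_eq_mul, Finset.card_erase_of_mem hp] at hsum
  have := Finset.card_pos.mpr ⟨p, hp⟩
  omega

end Cfsg.Agent.Lib.Fi23Recog30
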