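import Cfsg.Prelude.Def_CaseTheorems
import Cfsg.Agent.Lib.FischerM23C90.Hosting
import Cfsg.Agent.Lib.FischerMTypes.TypeM23
import Cfsg.Agent.Lib.FischerUniq91.Eight.Main
import Cfsg.Agent.Lib.Fi23Recog30.Base

/-!
An involution whose centraliser is a perfect double cover of a group of type M(22) and which is not
weakly closed in it: its conjugates are a primitive class of 3-transpositions with the data of one
step up from type M(22).
-/

set_option autoImplicit false
set_option linter.style.haveILetI false
set_option linter.unusedSectionVars false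

namespace Cfsg.Agent.Lib.Fi23Recog30

open Cfsg.Agent.Lib.FischerMTypes.Basic Cfsg.Agent.Lib.FischerMTypes.Primitive
  Cfsg.Agent.Lib.FischerMTypes.Levels Cfsg.Agent.Lib.FischerMTypes.Step Cfsg.Agent.Lib.FischerMTypes90
  Cfsg.Agent.Lib.FischerM23C90
open Cfsg.Agent.Lib.FischerMTypes.TraceCounts (Sys exists_sys)
open Cfsg.Agent.Lib.FischerMTypes.Connected (Conn)

universe u

section

variable {G : Type*} [Group G] [Finite G] {Q : Type*} [Group Q] [Finite Q]
variable {E : Set Q} {F : Type} [Field F] [Fintype F]
variable {Cg : Subgroup G} {π : ↥Cg →* Q} {z : ↥Cg}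
variable {L : Q → ↥Cg} {B : Set Q} {T : Sylow 2 ↥Cg} {A : Subgroup G}
variable (S : Sys E F) (b : FischerM23C90.Base Cg E π z L B T A)

local notation "D₀" => conjugatesOf (z : G)

include S b in
/-- the kernel of the cover is the centre -/
theorem ker_eq : π.ker = Subgroup.center ↥Cg := by
  ext x
  constructor
  · intro hx
    rcases b.frame.cover.ker x hx with h | h <;> rw [h]
    · exact one_mem _
    · exact Subgroup.mem_center_iff.mpr fun y => (b.frame.cover.central y).symm
  · intro hx
    have : π x ∈ Subgroup.center Q := Subgroup.mem_center_iff.mpr fun q => by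
      obtain ⟨y, rfl⟩ := b.frame.cover.surj q
      rw [← map_mul, ← map_mul, Subgroup.mem_center_iff.mp hx y]
    rw [S.hZ] at this
    exact this

include S b in
/-- the perp group at the involution is modelled on the quotient -/
theorem loc_self : Nonempty (Loc D₀ (z : G) E) := by
  obtain ⟨-, -, -, hperp⟩ := three_transpositions S b
  let ε : ↥(Subgroup.closure (perp D₀ (z : G))) ≃* ↥Cg := MulEquiv.subgroupCongr hperp
  have hε : ∀ x, ((ε x : ↥Cg) : G) = (x : G) := fun _ => rfl
  refine ⟨⟨π.comp ε.toMonoidHom, b.frame.cover.surj.comp ε.surjective, ?_, ?_⟩⟩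
  · ext x
    rw [MonoidHom.mem_ker, MonoidHom.comp_apply, MulEquiv.coe_toMonoidHom, ← MonoidHom.mem_ker,
      ker_eq S b, Subgroup.mem_center_iff, Subgroup.mem_center_iff]
    constructor
    · exact fun h y => ε.injective (by rw [map_mul, map_mul, h (ε y)])
    · intro h y
      obtain ⟨y, rfl⟩ := ε.surjective y
      rw [← map_mul, ← map_mul, h y]
  · ext q
    constructor
    · intro hq
      obtain ⟨x, hx⟩ := ε.surjective (L q)
      refine ⟨x, ?_, by rw [MonoidHom.comp_apply, MulEquiv.coe_toMonoidHom, hx, b.sect.proj q hq]⟩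
      show (x : G) ∈ perp D₀ (z : G)
      rw [← hε, hx]
      exact (chart_self S b).mem q hq
    · rintro ⟨x, hx, rfl⟩
      obtain ⟨e, he, hle⟩ := (chart_self S b).surj _ hx
      have : ε x = L e := Subtype.ext ((hε x).trans hle.symm)
      rwa [MonoidHom.comp_apply, MulEquiv.coe_toMonoidHom, this, b.sect.proj e he]

include S b in
/-- every member lies in its perp group -/
theorem self_mem {a : G} (ha : a ∈ D₀) : a ∈ Subgroup.closure (perp D₀ a) := by
  obtain ⟨hcls, -, -, hperp⟩ := three_transpositions S b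
  obtain ⟨g, rfl⟩ := isConj_iff.mp (show IsConj (z : G) a from ha)
  exact conj_mem_closure_perp (group_of_class hcls) rfl (by rw [hperp]; exact z.2)

include S b in
/-- an inclusion of commuting sets is an equality -/
theorem subsetEq : SubsetEq D₀ := by
  obtain ⟨hcls, -, -, hperp⟩ := three_transpositions S b
  have key : ∀ v ∈ D₀, (∀ x ∈ D₀, Commute x (z : G) → Commute x v) → (z : G) = v := by
    intro v hv h
    have hzv : Commute (z : G) v := h _ mem_conjugatesOf_self (Commute.refl _)
    have hvC : v ∈ Cg := (b.frame.mem v).mpr hzv.symm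
    have hcen : (⟨v, hvC⟩ : ↥Cg) ∈ Subgroup.center ↥Cg := by
      rw [Subgroup.mem_center_iff]
      rintro ⟨y, hy⟩
      rw [← hperp] at hy
      exact Subtype.ext (commute_closure (u := v) (fun s hs => (h s hs.1 hs.2.2.symm).symm) y hy).eq.symm
    rw [← ker_eq S b] at hcen
    rcases b.frame.cover.ker _ hcen with h1 | h1
    · have := order_D b v hv
      rw [show v = 1 from congrArg Subtype.val h1, orderOf_one] at this
      omega
    · exact (congrArg Subtype.val h1).symm
  intro a ha c hc h
  obtain ⟨g, rfl⟩ := isConj_iff.mp (show IsConj (z : G) a from ha)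
  have := key (g⁻¹ * c * g) (by simpa using conjD g⁻¹ c hc) fun x hx hxz => by
    have := (commute_conj_iff g⁻¹ _ _).mpr
      (h (g * x * g⁻¹) (conjD g x hx) ((commute_conj_iff g x (z : G)).mpr hxz))
    simpa [mul_assoc] using this
  rw [this]; group

include S b in
/-- primitivity and the data one step up -/
theorem exists_step : Nonempty (StepData D₀ E 3510 693 180 126 6531840) := by
  obtain ⟨hcls, hrel, hZ, -⟩ := three_transpositions S b
  have hD := group_of_class hcls
  obtain ⟨ℓ⟩ := loc_self S b
  have hcl : ∀ a ∈ D₀, ∀ c ∈ D₀, ∃ g : G, g * a * g⁻¹ = c := fun a ha c hc =>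
    isConj_iff.mp ((IsConj.symm ha).trans hc)
  have hloc : ∀ a ∈ D₀, Nonempty (Loc D₀ a E) := fun a ha => by
    obtain ⟨g, rfl⟩ := isConj_iff.mp (show IsConj (z : G) a from ha)
    exact FischerMTypes.M23Data.loc_conj hD ℓ g
  let P : PreStep D₀ E 3510 693 180 126 6531840 :=
    ⟨hD, hcl, subsetEq S b, hZ, FischerMTypes.RankM22.rankData S, fun a ha => (hloc a ha).some⟩
  refine ⟨⟨P, P.primitive_of_conn FischerMTypes.M23Data.small (by norm_num) ⟨_, mem_conjugatesOf_self⟩
    fun a ha x hx => ?_⟩⟩
  rcases (hrel a ha x hx).2 with hc | ⟨p, hp, hp'⟩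
  · exact FischerMTypes.Connected.Conn.single' ha hx hc
  · exact Relation.ReflTransGen.trans (FischerMTypes.Connected.Conn.single' ha hp.1 hp.2.2)
      (FischerMTypes.Connected.Conn.single' hp.1 hx hp'.2.2.symm)

end

/-- the setting from an involution with quasisimple centraliser over a group isomorphic to Fi22 -/
theorem exists_setting {G : Type u} [Group G] [Finite G] (d : G) (hd : orderOf d = 2)
    (hq : Cfsg.IsQuasisimple (Subgroup.centralizer ({d} : Set G)))
    [((Subgroup.zpowers d).subgroupOf (Subgroup.centralizer ({d} : Set G))).Normal]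
    (e : Cfsg.Spor.IsoFi22 ((Subgroup.centralizer ({d} : Set G)) ⧸
      (Subgroup.zpowers d).subgroupOf (Subgroup.centralizer ({d} : Set G))))
    (hnwc : ∃ g : G, g * d * g⁻¹ ∈ Subgroup.centralizer ({d} : Set G) ∧ g * d * g⁻¹ ≠ d) :
    ∃ (Q : Type u) (_ : Group Q) (_ : Finite Q) (E : Set Q) (F : Type) (_ : Field F) (_ : Fintype F)
      (_ : Sys E F) (π : ↥(Subgroup.centralizer ({d} : Set G)) →* Q)
      (z : ↥(Subgroup.centralizer ({d} : Set G))) (L : Q → ↥(Subgroup.centralizer ({d} : Set G))) (B : Set Q)
      (T : Sylow 2 ↥(Subgroup.centralizer ({d} : Set G))) (A : Subgroup G),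
      (z : G) = d ∧ FischerM23C90.Base (Subgroup.centralizer ({d} : Set G)) E π z L B T A := by
  set C := Subgroup.centralizer ({d} : Set G)
  set N := (Subgroup.zpowers d).subgroupOf C
  obtain ⟨E, hcls, htype⟩ := exists_class e
  have hE3 := group_of_class hcls
  have hprim := FischerMTypes.Connected.primitive_of_M22 hE3 htype
  obtain ⟨F, iF, iF', ⟨S⟩⟩ := exists_sys hE3 hprim htype
  have hdC : d ∈ C := Subgroup.mem_centralizer_singleton_iff.mpr rfl
  have hd2 : d * d = 1 := by rw [← pow_two, ← hd, pow_orderOf_eq_one]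
  have hd1 : d ≠ 1 := fun h => by rw [h, orderOf_one] at hd; omega
  have hC : Cover (QuotientGroup.mk' N) ⟨d, hdC⟩ :=
    { surj := QuotientGroup.mk'_surjective _
      ker := fun x hx => by
        have hxN : (x : G) ∈ Subgroup.zpowers d :=
          Subgroup.mem_subgroupOf.mp ((QuotientGroup.eq_one_iff x).mp hx)
        obtain ⟨k, hk⟩ := Subgroup.mem_zpowers_iff.mp hxN
        rcases Int.even_or_odd' k with ⟨m, rfl | rfl⟩
        · exact Or.inl (Subtype.ext (by rw [← hk, zpow_mul, zpow_two, hd2, one_zpow]; rfl))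
        · exact Or.inr (Subtype.ext (by rw [← hk, zpow_add_one, zpow_mul, zpow_two, hd2, one_zpow, one_mul]))
      one := (QuotientGroup.eq_one_iff _).mpr (Subgroup.mem_subgroupOf.mpr (Subgroup.mem_zpowers d))
      sq := Subtype.ext hd2
      ne := fun h => hd1 (congrArg Subtype.val h)
      central := fun y => Subtype.ext (Subgroup.mem_centralizer_singleton_iff.mp y.2).symm }
  obtain ⟨L, B, T, A, b⟩ := FischerM23C90.exists_base S (z := (⟨d, hdC⟩ : ↥C))
    (fun g => Subgroup.mem_centralizer_singleton_iff) hC hq.1.commutator_eq_top hnwc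
  exact ⟨_, inferInstance, inferInstance, E, F, iF, iF', S, _, _, L, B, T, A, rfl, b⟩

/-- a trace of 351 at one pair identifies the group -/
theorem iso_of_trace {G : Type*} [Group G] [Finite G] {Q : Type*} [Group Q] [Finite Q] {E : Set Q}
    {F : Type} [Field F] [Fintype F] (S₂ : Sys E F) {D : Set G} (S : StepData D E 3510 693 180 126 6531840)
    (hself : ∀ a ∈ D, a ∈ Subgroup.closure (perp D a))
    {a x : G} (ha : a ∈ D) (hx : x ∈ near D a) (h351 : (perp₂ D a x).ncard = 351) :
    Nonempty (G ≃* Cfsg.Spor.Fi23) := by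
  have htr : ∀ c ∈ D, ∀ y ∈ near D c, (perp₂ D c y).ncard = 351 := fun c hc y hy => by
    rw [S.ncard_trace_eq hc hy ha hx, h351]
  obtain ⟨e, -⟩ := FischerUniq91.Eight.Main.exists_iso S₂ S
    { small := FischerMTypes.M23Data.small
      self := hself
      trace_card := htr
      meet := fun c hc y hy f hf hf' => by
        rw [(FischerMTypes.M23Data.trace_bounds (F := F) S hc hy).2.2 (htr c hc y hy) f hf hf']
        norm_num
      big_edge := by norm_num
      big_trace := by norm_num }
  exact ⟨e.symm⟩

end Cfsg.Agent.Lib.Fi23Recog30
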